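import Groth.Agent.Lib.ModM1.Fpqc
import Groth.Agent.Lib.ModM1.PullSpec
import Groth.Agent.Lib.ModM1.Coh
import Groth.Agent.Lib.TensorMod.Tilde
import Groth.Agent.Lib.TensorMod.InvCrit
import Groth.Agent.Lib.TensorMod.Dual
import Groth.Agent.Lib.Twist.Pullback
import Groth.Prelude.Def_Formal2
import Mathlib.RingTheory.PicardGroup

/-!
# Invertible modules on affine schemes
-/

universe u

set_option autoImplicit false
set_option backward.isDefEq.respectTransparency false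

open CategoryTheory Limits AlgebraicGeometry TensorProduct

noncomputable section

namespace Groth.Agent.PicAff14

variable {R : CommRingCat.{u}}

theorem linearEquiv_of_tilde_iso {M N : ModuleCat.{u} R} (e : tilde M ≅ tilde N) : Nonempty (M ≃ₗ[R] N) :=
  ⟨(tilde.fullyFaithfulFunctor.preimageIso e).toLinearEquiv⟩

def tildeIsoOfEquiv {M N : ModuleCat.{u} R} (e : M ≃ₗ[R] N) : tilde M ≅ tilde N :=
  (tilde.functor R).mapIso e.toModuleIso

theorem isInvertible_tilde (P : ModuleCat.{u} R) [Module.Invertible R P] : PicF.IsInvertible (tilde P) := by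
  have e : P ⊗[R] Module.Dual R P ≃ₗ[R] R :=
    TensorProduct.comm R P (Module.Dual R P) ≪≫ₗ Module.Invertible.linearEquiv R P
  exact M2.isInvertible_of_tensor_iso_unit (tilde P) (tilde (ModuleCat.of R (Module.Dual R P)))
    ((M2.tildeTensorIso P (ModuleCat.of R (Module.Dual R P))).symm ≪≫
      tildeIsoOfEquiv (M := ModuleCat.of R (P ⊗[R] Module.Dual R P)) (N := ModuleCat.of R R) e ≪≫
        tildeSelf)

theorem exists_invertible_tilde {L : (Spec R).Modules} (hL : PicF.IsInvertible L) :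
    ∃ P : ModuleCat.{u} R, Module.Invertible R P ∧ Nonempty (L ≅ tilde P) := by
  obtain ⟨D, hD, ⟨e⟩⟩ := M2.exists_inverse hL
  haveI : L.IsQuasicoherent := Twist.isQCoh_of_isInvertible hL
  haveI : D.IsQuasicoherent := Twist.isQCoh_of_isInvertible hD
  let P : ModuleCat.{u} R := moduleSpecΓFunctor.obj L
  let a : L ≅ tilde P := (@asIso _ _ _ _ L.fromTildeΓ (Scheme.Modules.isIso_fromTildeΓ_of_isQuasicoherent L)).symm
  let Q : ModuleCat.{u} R := moduleSpecΓFunctor.obj D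
  let b : D ≅ tilde Q := (@asIso _ _ _ _ D.fromTildeΓ (Scheme.Modules.isIso_fromTildeΓ_of_isQuasicoherent D)).symm
  obtain ⟨c⟩ := linearEquiv_of_tilde_iso (M := ModuleCat.of R (P ⊗[R] Q)) (N := ModuleCat.of R R)
    (M2.tildeTensorIso P Q ≪≫ (M2.tensorIso a b).symm ≪≫ e ≪≫ tildeSelf.symm)
  exact ⟨P, Module.Invertible.left c, ⟨a⟩⟩

variable {S : CommRingCat.{u}} (φ : R ⟶ S)

theorem pullback_tilde_iso (P : ModuleCat.{u} R) :
    letI := φ.hom.toAlgebra
    Nonempty ((Scheme.Modules.pullback (Spec.map φ)).obj (tilde P) ≅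
      tilde (ModuleCat.of S ((S : Type u) ⊗[R] P))) := by
  letI := φ.hom.toAlgebra
  exact ⟨M1.tildePullbackObjIso φ P⟩

theorem picPullbackInjective_specMap
    (h : letI := φ.hom.toAlgebra; ∀ (P : Type u) [AddCommGroup P] [Module R P] [Module.Invertible R P],
      Nonempty ((S : Type u) ⊗[R] P ≃ₗ[S] S) → Nonempty (P ≃ₗ[R] R)) :
    Formal2.PicPullbackInjective (Spec.map φ) := by
  letI := φ.hom.toAlgebra
  intro L hL he
  obtain ⟨i⟩ := he
  obtain ⟨P, hP, ⟨a⟩⟩ := exists_invertible_tilde hL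
  obtain ⟨p⟩ := pullback_tilde_iso φ P
  obtain ⟨c⟩ := linearEquiv_of_tilde_iso
    (p.symm ≪≫ (Scheme.Modules.pullback (Spec.map φ)).mapIso a.symm ≪≫ i ≪≫ tildeSelf.symm)
  obtain ⟨d⟩ := h P ⟨c⟩
  exact ⟨a ≪≫ tildeIsoOfEquiv (M := P) (N := ModuleCat.of R R) d ≪≫ tildeSelf⟩

theorem picPullbackSurjective_specMap
    (h : letI := φ.hom.toAlgebra; ∀ (Q : Type u) [AddCommGroup Q] [Module S Q] [Module.Invertible S Q],
      ∃ (P : Type u) (_ : AddCommGroup P) (_ : Module R P), Module.Invertible R P ∧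
        Nonempty ((S : Type u) ⊗[R] P ≃ₗ[S] Q)) :
    Formal2.PicPullbackSurjective (Spec.map φ) := by
  letI := φ.hom.toAlgebra
  intro L' hL'
  obtain ⟨Q, hQ, ⟨a⟩⟩ := exists_invertible_tilde hL'
  obtain ⟨P, _, _, hP, ⟨d⟩⟩ := h Q
  haveI : Module.Invertible R (ModuleCat.of R P) := hP
  obtain ⟨p⟩ := pullback_tilde_iso φ (ModuleCat.of R P)
  refine ⟨tilde (ModuleCat.of R P), isInvertible_tilde (ModuleCat.of R P),
    ⟨p ≪≫ tildeIsoOfEquiv (M := ModuleCat.of S ((S : Type u) ⊗[R] P)) (N := Q) d ≪≫ a.symm⟩⟩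

end Groth.Agent.PicAff14
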